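import Cfsg.Agent.ChevalleyStructure.Tits.Main
set_option linter.all false

/-! Kernel computation: an element of a Sylow 2-subgroup of ²F₄(2) lying outside the Tits group does not
square to one.  Consequently all involutions of ²F₄(2) lie in the Tits group. -/

set_option autoImplicit false

namespace Cfsg.Agent.H246.TitsComp

open Cfsg.Agent.ChevalleyStructure.Tits.Pack Cfsg.Agent.ChevalleyStructure.Tits.Data
  Cfsg.Agent.ChevalleyStructure.Tits.Cert Cfsg.Agent.ChevalleyStructure.Tits.Rank2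
  Cfsg.Agent.ChevalleyStructure.Tits.Sat Cfsg.Agent.ChevalleyStructure.Tits.Final
  Cfsg.Agent.ChevalleyStructure.Tits.Mat Cfsg.Agent.ChevalleyStructure.Tits.Order
  Cfsg.Agent.ChevalleyStructure.Tits.Table Cfsg.Agent.ChevalleyStructure.Tits.Main

/-- tree of all the words -/
def go : ℕ → ℕ → ℕ → Bool → Bool
  | 0, _, acc, par => !par || !(Nat.beq (Nat.mod (mulP acc acc) (Nat.pow 2 2704)) oneP)
  | m + 1, k, acc, par =>
    bif Nat.beq (Nat.mod k 2) 0 then
      go m (Nat.succ k) acc par && go m (Nat.succ k) (mulP acc (LP k)) par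
    else
      go m (Nat.succ k) acc par && (go m (Nat.succ k) (mulP acc (LP k)) (!par) &&
        (go m (Nat.succ k) (mulP (mulP acc (LP k)) (LP k)) par &&
          go m (Nat.succ k) (mulP (mulP (mulP acc (LP k)) (LP k)) (LP k)) (!par)))

theorem go_ok : go 8 0 oneP false = true := by decide +kernel

theorem oneP_lt : oneP < 2 ^ 2704 := by decide +kernel

theorem ix_surj (i : ℕ) (hi : i < 52) : ∃ r : I52, ix r = i := by
  by_cases h4 : i < 4
  · exact ⟨Sum.inl ⟨i, h4⟩, rfl⟩
  · refine ⟨Sum.inr ⟨i - 4, by omega⟩, ?_⟩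
    rw [ix_inr]
    show 4 + (i - 4) = i
    omega

theorem toMat_inj_mod {a b : ℕ} (h : toMat a = toMat b) : a % 2 ^ 2704 = b % 2 ^ 2704 := by
  apply Nat.eq_of_testBit_eq
  intro p
  rw [Nat.testBit_mod_two_pow, Nat.testBit_mod_two_pow]
  by_cases hp : p < 2704
  · obtain ⟨r, hr⟩ := ix_surj (p % 52) (Nat.mod_lt _ (by norm_num))
    obtain ⟨s, hs⟩ := ix_surj (p / 52) (by omega)
    have h1 := congrFun (congrFun h r) s
    rw [toMat_apply, toMat_apply, hr, hs, Nat.div_add_mod] at h1
    revert h1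
    cases a.testBit p <;> cases b.testBit p <;> simp [bz]
  · simp [hp]

theorem mem_V_cases {k : ℕ} (hk : k < 8) {v : H0} (hv : v ∈ V yH k) :
    ∃ e < od k, ∃ v' ∈ V yH (k + 1), v = yH k ^ e * v' := by
  rw [V_succ yH hk] at hv
  obtain ⟨x, hx, v', hv', rfl⟩ := mem_sup_fac (V_norm Sat_yH hk) v hv
  obtain ⟨e, he, rfl⟩ := mem_zpowers_cases (od_pos k) (pow_od Sat_yH hk) hx
  exact ⟨e, he, v', hv', rfl⟩

/-- the sign of a Boolean -/
def bs (b : Bool) : ℤˣ := if b then -1 else 1

theorem bs_not (b : Bool) : bs (!b) = bs b * -1 := by cases b <;> decide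

theorem coe_mul_yH {k : ℕ} (hk : k < 8) {g : H0} {acc : ℕ}
    (h : ((g : GL I52 (ZMod 2)) : Matrix I52 I52 (ZMod 2)) = toMat acc) :
    (((g * yH k : H0) : GL I52 (ZMod 2)) : Matrix I52 I52 (ZMod 2)) = toMat (mulP acc (LP k)) := by
  rw [Subgroup.coe_mul, Units.val_mul, h, coe_yH (by omega), coe_yG (by omega), LM, toMat_mulP]

theorem go_zero (k acc : ℕ) (par : Bool) :
    go 0 k acc par = (!par || !(Nat.beq (Nat.mod (mulP acc acc) (Nat.pow 2 2704)) oneP)) := rfl

theorem go_succ_even (m k acc : ℕ) (par : Bool) (hk : k % 2 = 0) :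
    go (m + 1) k acc par = (go m (k + 1) acc par && go m (k + 1) (mulP acc (LP k)) par) := by
  have : Nat.beq (Nat.mod k 2) 0 = true := by
    rw [Nat.beq_eq]; exact hk
  rw [go, this, cond_true]

theorem go_succ_odd (m k acc : ℕ) (par : Bool) (hk : k % 2 = 1) :
    go (m + 1) k acc par = (go m (k + 1) acc par && (go m (k + 1) (mulP acc (LP k)) (!par) &&
        (go m (k + 1) (mulP (mulP acc (LP k)) (LP k)) par &&
          go m (k + 1) (mulP (mulP (mulP acc (LP k)) (LP k)) (LP k)) (!par)))) := by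
  have : Nat.beq (Nat.mod k 2) 0 = false := by
    rw [Bool.eq_false_iff, Ne, Nat.beq_eq]
    intro h
    have h2 : k % 2 = 0 := h
    omega
  rw [go, this, cond_false]

theorem sound (χ : H0 →* ℤˣ) (h0 : ∀ i < 8, i % 2 = 0 → χ (yH i) = 1)
    (h1 : ∀ i < 8, i % 2 = 1 → χ (yH i) = -1) :
    ∀ (m k acc : ℕ) (par : Bool) (g : H0), k + m = 8 → go m k acc par = true →
      ((g : GL I52 (ZMod 2)) : Matrix I52 I52 (ZMod 2)) = toMat acc → χ g = bs par →
      ∀ v ∈ V yH k, (g * v) * (g * v) = 1 → χ (g * v) = 1 := by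
  intro m
  induction m with
  | zero =>
    intro k acc par g hk hgo hg hpar v hv hsq
    have hk8 : k = 8 := by omega
    subst hk8
    rw [V_eight, Subgroup.mem_bot] at hv
    subst hv
    rw [mul_one] at hsq ⊢
    rw [go_zero, Bool.or_eq_true, Bool.not_eq_true', Bool.not_eq_true'] at hgo
    rcases hgo with h | h
    · rw [hpar, h]; rfl
    · exfalso
      have h2 : toMat (mulP acc acc) = toMat oneP := by
        rw [toMat_mulP, toMat_oneP, ← hg, ← Units.val_mul, ← Subgroup.coe_mul, hsq]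
        rfl
      have h3 := toMat_inj_mod h2
      rw [Nat.mod_eq_of_lt oneP_lt] at h3
      have h4 : Nat.beq (Nat.mod (mulP acc acc) (Nat.pow 2 2704)) oneP = true :=
        (Nat.beq_eq ▸ h3 : _)
      rw [h4] at h
      exact absurd h (by decide)
  | succ m ih =>
    intro k acc par g hk hgo hg hpar v hv hsq
    have hk8 : k < 8 := by omega
    obtain ⟨e, he, v', hv', rfl⟩ := mem_V_cases hk8 hv
    have hk1 : k + 1 + m = 8 := by omega
    have hassoc : ∀ x : H0, g * (x * v') = g * x * v' := fun x => (mul_assoc g x v').symm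
    rw [hassoc] at hsq ⊢
    rcases Nat.mod_two_eq_zero_or_one k with hpk | hpk
    · have hod : od k = 2 := by unfold od; rw [if_pos hpk]
      rw [hod] at he
      rw [go_succ_even m k acc par hpk, Bool.and_eq_true] at hgo
      have hy := h0 k hk8 hpk
      have e1 := coe_mul_yH hk8 hg
      interval_cases e
      · rw [pow_zero, mul_one] at hsq ⊢
        exact ih (k + 1) acc par g hk1 hgo.1 hg hpar v' hv' hsq
      · rw [pow_one] at hsq ⊢
        exact ih (k + 1) (mulP acc (LP k)) par (g * yH k) hk1 hgo.2 e1 (by rw [map_mul, hy, mul_one, hpar]) v' hv' hsq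
    · have hod : od k = 4 := by unfold od; rw [if_neg (by omega)]
      rw [hod] at he
      rw [go_succ_odd m k acc par hpk, Bool.and_eq_true, Bool.and_eq_true, Bool.and_eq_true] at hgo
      have hy := h1 k hk8 hpk
      have e1 := coe_mul_yH hk8 hg
      have e2 := coe_mul_yH hk8 e1
      have e3 := coe_mul_yH hk8 e2
      interval_cases e
      · rw [pow_zero, mul_one] at hsq ⊢
        exact ih (k + 1) acc par g hk1 hgo.1 hg hpar v' hv' hsq
      · rw [pow_one] at hsq ⊢
        exact ih (k + 1) (mulP acc (LP k)) (!par) (g * yH k) hk1 hgo.2.1 e1 (by rw [map_mul, hy, hpar, bs_not]) v' hv' hsq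
      · have hp : g * yH k ^ 2 = g * yH k * yH k := by rw [pow_two, mul_assoc]
        rw [hp] at hsq ⊢
        refine ih (k + 1) (mulP (mulP acc (LP k)) (LP k)) par (g * yH k * yH k) hk1 hgo.2.2.1 e2 ?_ v' hv' hsq
        rw [map_mul, map_mul, hy, hpar, mul_assoc]
        simp
      · have hp : g * yH k ^ 3 = g * yH k * yH k * yH k := by
          rw [pow_succ, pow_two, mul_assoc, mul_assoc, mul_assoc]
        rw [hp] at hsq ⊢
        refine ih (k + 1) (mulP (mulP (mulP acc (LP k)) (LP k)) (LP k)) (!par) (g * yH k * yH k * yH k) hk1 hgo.2.2.2 e3 ?_ v' hv' hsq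
        rw [map_mul, map_mul, map_mul, hy, hpar, bs_not, mul_assoc, mul_assoc]
        simp

instance finite_H0 : Finite H0 := by
  apply Nat.finite_of_card_ne_zero
  rw [card_H0]
  norm_num

theorem conj_sign (χ : H0 →* ℤˣ) {n a b : H0} (hn : n * n = 1) (h : n * a * n = b) : χ b = χ a := by
  rw [← h, map_mul, map_mul, mul_right_comm, ← map_mul, hn, map_one, one_mul]

theorem exists_chi : ∃ χ : H0 →* ℤˣ, (∀ i < 8, i % 2 = 0 → χ (yH i) = 1) ∧
    (∀ i < 8, i % 2 = 1 → χ (yH i) = -1) := by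
  obtain ⟨χ, h7⟩ := exists_sign Sat_yH gen_yH card_H0
  have n8 := n1n1 Sat_yH
  have n9 := n2n2 Sat_yH
  have e1 : χ (yH 1) = -1 := by
    rw [conj_sign χ n8 (n1_conj Sat_yH (j := 7) (by norm_num) (by norm_num)), h7]
  have e5 : χ (yH 5) = -1 := by
    rw [conj_sign χ n9 (n2_conj Sat_yH (j := 1) (by norm_num)), e1]
  have e3 : χ (yH 3) = -1 := by
    rw [conj_sign χ n8 (n1_conj Sat_yH (j := 5) (by norm_num) (by norm_num)), e5]
  have e2 : χ (yH 2) = 1 := by
    have h := Sat_yH ([1, 3], [2, 3, 1]) (by decide +kernel)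
    simp only [List.map_cons, List.map_nil, List.prod_cons, List.prod_nil, mul_one] at h
    have h2 := congrArg χ h
    rw [map_mul, map_mul, map_mul, e1, e3] at h2
    simpa using h2.symm
  have e6 : χ (yH 6) = 1 := by
    rw [conj_sign χ n8 (n1_conj Sat_yH (j := 2) (by norm_num) (by norm_num)), e2]
  have e4 : χ (yH 4) = 1 := by
    rw [conj_sign χ n9 (n2_conj Sat_yH (j := 2) (by norm_num)), e2]
  have e0 : χ (yH 0) = 1 := by
    rw [conj_sign χ n9 (n2_conj Sat_yH (j := 6) (by norm_num)), e6]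
  refine ⟨χ, ?_, ?_⟩
  · intro i hi h
    interval_cases i
    · exact e0
    · omega
    · exact e2
    · omega
    · exact e4
    · omega
    · exact e6
    · omega
  · intro i hi h
    interval_cases i
    · omega
    · exact e1
    · omega
    · exact e3
    · omega
    · exact e5
    · omega
    · exact h7

/-- the Sylow 2-subgroup of ²F₄(2) -/
noncomputable def syl : Sylow 2 H0 :=
  haveI : Fact (Nat.Prime 2) := ⟨Nat.prime_two⟩
  Sylow.ofCard (V yH 0) (by
    rw [card_V_yH, card_H0]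
    have : (35942400 : ℕ) = 2 ^ 12 * 8775 := by norm_num
    rw [this, Nat.factorization_mul (by norm_num) (by norm_num), Nat.Prime.factorization_pow Nat.prime_two]
    have h2 : Nat.factorization 8775 2 = 0 := Nat.factorization_eq_zero_of_not_dvd (by norm_num)
    simp [h2])

theorem syl_coe : (syl : Subgroup H0) = V yH 0 := rfl

/-- an element of 2-power order is conjugate to an element of `V yH 0` -/
theorem exists_conj_mem {t : H0} {n : ℕ} (ht : t ^ 2 ^ n = 1) : ∃ g : H0, g * t * g⁻¹ ∈ V yH 0 := by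
  haveI : Fact (Nat.Prime 2) := ⟨Nat.prime_two⟩
  have hp : IsPGroup 2 (Subgroup.zpowers t) := by
    rintro ⟨x, k, rfl⟩
    refine ⟨n, ?_⟩
    apply Subtype.ext
    show (t ^ k) ^ 2 ^ n = 1
    rw [← zpow_natCast, ← zpow_mul, mul_comm, zpow_mul, zpow_natCast, ht, one_zpow]
  obtain ⟨P, hP⟩ := hp.exists_le_sylow
  obtain ⟨g, hg⟩ := MulAction.exists_smul_eq H0 P syl
  refine ⟨g, ?_⟩
  have h1 : t ∈ (P : Subgroup H0) := hP (Subgroup.mem_zpowers t)
  have h2 : (g • P : Sylow 2 H0).toSubgroup = V yH 0 := by rw [hg]; rfl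
  rw [← h2, Sylow.coe_subgroup_smul]
  exact Subgroup.smul_mem_pointwise_smul t (MulAut.conj g) _ h1

theorem sign_involution (χ : H0 →* ℤˣ) (h0 : ∀ i < 8, i % 2 = 0 → χ (yH i) = 1)
    (h1 : ∀ i < 8, i % 2 = 1 → χ (yH i) = -1) {t : H0} (ht : t * t = 1) : χ t = 1 := by
  obtain ⟨g, hg⟩ := exists_conj_mem (t := t) (n := 1) (by rw [pow_one, pow_two, ht])
  have h := sound χ h0 h1 8 0 oneP false 1 rfl go_ok (by rw [toMat_oneP]; rfl) (by rw [map_one]; rfl) _ hg
    (by
      rw [one_mul]
      calc g * t * g⁻¹ * (g * t * g⁻¹) = g * (t * t) * g⁻¹ := by group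
        _ = 1 := by rw [ht]; group)
  rw [one_mul, map_mul, map_mul, map_inv] at h
  rw [← h]
  have : (χ g) * χ t * (χ g)⁻¹ = χ t := by rw [mul_right_comm, mul_inv_cancel, one_mul]
  exact this.symm

theorem mem_commutator_iff (χ : H0 →* ℤˣ) (h7 : χ (yH 7) = -1) (t : H0) :
    t ∈ commutator H0 ↔ χ t = 1 := by
  have h1 : commutator H0 ≤ χ.ker := Abelianization.commutator_subset_ker χ
  constructor
  · intro h
    exact h1 h
  · intro h
    by_contra hc
    have hi := H0_result.1
    have h7c : yH 7 ∉ commutator H0 := by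
      intro h8
      have h9 : yH 7 ∈ χ.ker := h1 h8
      rw [MonoidHom.mem_ker, h7] at h9
      exact absurd h9 (by decide)
    have h2 : t * yH 7 ∈ commutator H0 := by
      rw [Subgroup.mul_mem_iff_of_index_two hi]
      exact ⟨fun h => absurd h hc, fun h => absurd h h7c⟩
    have h3 : t * yH 7 ∈ χ.ker := h1 h2
    rw [MonoidHom.mem_ker, map_mul, h, h7] at h3
    exact absurd h3 (by decide)

theorem mem_commutator_of_sq {t : H0} (ht : t * t = 1) : t ∈ commutator H0 := by
  obtain ⟨χ, h0, h1⟩ := exists_chi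
  rw [mem_commutator_iff χ (h1 7 (by norm_num) (by norm_num))]
  exact sign_involution χ h0 h1 ht

theorem mem_commutator_aux (K : Subgroup (GL I52 (ZMod 2))) (hK : K = H0) {t : K} (ht : t * t = 1) :
    t ∈ commutator K := by
  subst hK
  exact mem_commutator_of_sq ht

end Cfsg.Agent.H246.TitsComp
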